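import Mathlib
import Cfsg.Agent.Lib.Cores
import Cfsg.Agent.S0044

/-!
# A coprime action of a Sylow subgroup on a solvable normal subgroup: finding a small nonnilpotent section
-/

set_option autoImplicit false

namespace Cfsg.Agent.H668.Dim

open Subgroup Cfsg
open Cfsg.Agent.Lib.Cores
open scoped commutatorElement

/-- If `E = [E, P] ≠ 1` is a solvable normal subgroup, then `P` does not centralise some `O_r(E)`. -/
theorem exists_pCore {G : Type*} [Group G] [Finite G] [Group.IsSolvable G] (E P : Subgroup G) (hEn : E.Normal)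
    (hEP : ⁅E, P⁆ = E) (hE : E ≠ ⊥) :
    ∃ r : ℕ, r.Prime ∧ ¬ P ≤ centralizer ((E ⊓ pCore r G : Subgroup G) : Set G) := by
  by_contra hcon
  push Not at hcon
  apply hE
  -- `E` centralises all `O_r(E)`
  have h1 : ∀ r : ℕ, r.Prime → E ≤ centralizer ((E ⊓ pCore r G : Subgroup G) : Set G) := by
    intro r hr
    have hn : (E ⊓ pCore r G : Subgroup G).Normal := inferInstance
    have h2 : ⁅P, (E ⊓ pCore r G : Subgroup G)⁆ = ⊥ := by
      rw [commutator_eq_bot_iff_le_centralizer]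
      exact hcon r hr
    have h3 : ⁅⁅E, P⁆, (E ⊓ pCore r G : Subgroup G)⁆ = ⊥ := by
      apply commutator_commutator_eq_bot_of_rotate
      · rw [h2, commutator_bot_left]
      · rw [eq_bot_iff]
        calc ⁅⁅(E ⊓ pCore r G : Subgroup G), E⁆, P⁆ ≤ ⁅(E ⊓ pCore r G : Subgroup G), P⁆ :=
              commutator_mono (commutator_le_left _ _) le_rfl
          _ = ⊥ := by rw [commutator_comm, h2]
    rw [hEP, commutator_eq_bot_iff_le_centralizer] at h3
    exact h3
  -- so `E` is contained in its Fitting subgroup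
  have h4 : ∀ r : ℕ, r.Prime → ∀ x : E, x ∈ centralizer (pCore r E : Set E) := by
    intro r hr x
    rw [mem_centralizer_iff]
    intro y hy
    have h5 : (y : G) ∈ (E ⊓ pCore r G : Subgroup G) := by
      rw [← map_subtype_pCore r hEn]
      exact ⟨y, hy, rfl⟩
    exact Subtype.ext (mem_centralizer_iff.1 (h1 r hr x.2) _ h5)
  have h6 : ∀ x : E, x ∈ centralizer (fittingSubgroup E : Set E) := by
    intro x
    have h2 : fittingSubgroup E ≤ Subgroup.centralizer ({x} : Set E) := by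
      rw [fittingSubgroup_eq_iSup_pCore]
      refine iSup_le fun r y hy => ?_
      rw [Subgroup.mem_centralizer_iff]
      rintro _ rfl
      exact ((Subgroup.mem_centralizer_iff.mp (h4 r r.2 _)) y hy).symm
    rw [Subgroup.mem_centralizer_iff]
    intro y hy
    exact ((Subgroup.mem_centralizer_iff.mp (h2 hy)) x rfl).symm
  have h7 : fittingSubgroup E = ⊤ := by
    rw [eq_top_iff]
    intro x _
    exact Cfsg.Agent.S0044.centralizer_fitting_le E (fittingSubgroup_normal (G := E)) (h6 x)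
  -- `P` centralises `E`
  have h8 : E ≤ centralizer (P : Set G) := by
    have h9 : (fittingSubgroup E).map E.subtype ≤ centralizer (P : Set G) := by
      rw [fittingSubgroup_eq_iSup_pCore, Subgroup.map_iSup]
      refine iSup_le fun r => ?_
      rw [map_subtype_pCore r hEn, le_centralizer_iff]
      exact hcon r r.2
    rwa [h7, ← MonoidHom.range_eq_map, Subgroup.range_subtype] at h9
  rw [← commutator_eq_bot_iff_le_centralizer] at h8
  rw [← hEP, h8]

/-- The section `D`. -/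
theorem exists_section {L G : Type*} [Group L] [Finite L] [Group.IsSolvable L] [Group G] (φ : L →* G)
    (hφ : Function.Surjective φ) {p q : ℕ} (hp : p.Prime) (hq : q.Prime) (hqp : q ≠ p) (E : Subgroup L)
    (hE : E.Normal) (P : Sylow p L) (hpE : ¬ p ∣ Nat.card E) (hEP : ⁅E, (P : Subgroup L)⁆ = E)
    (hss : ∀ E' : Subgroup L, E'.Normal → E' ≤ E → (∀ x ∈ E', ∃ k : ℕ, φ x ^ q ^ k = 1) → ∀ x ∈ E', φ x = 1)
    (hne : ¬ ∀ x ∈ E, φ x = 1) :
    ∃ D : Subgroup G, Group.IsSolvable D ∧ ¬ q ∣ Nat.card D ∧ ∃ P' : Sylow p D, ¬ (P' : Subgroup D).Normal := by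
  have hpf : Fact p.Prime := ⟨hp⟩
  have hqf : Fact q.Prime := ⟨hq⟩
  have hGf : Finite G := Finite.of_surjective φ hφ
  have hGs : Group.IsSolvable G := Group.isSolvable_of_surjective hφ
  have hEn : (E.map φ).Normal := hE.map φ hφ
  have hEP' : ⁅E.map φ, (P : Subgroup L).map φ⁆ = E.map φ := by
    rw [← map_commutator, hEP]
  have hE' : E.map φ ≠ ⊥ := by
    intro h
    apply hne
    intro x hx
    have : φ x ∈ E.map φ := mem_map_of_mem φ hx
    rwa [h, mem_bot] at this
  obtain ⟨r, hr, hrP⟩ := exists_pCore (E.map φ) ((P : Subgroup L).map φ) hEn hEP' hE'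
  have hrf : Fact r.Prime := ⟨hr⟩
  set R : Subgroup G := E.map φ ⊓ pCore r G with hR
  have hRn : R.Normal := inferInstance
  have hRr : IsPGroup r R := (pCore_isPGroup (G := G) r).to_le inf_le_right
  have hRbot : R ≠ ⊥ := by
    intro h
    rw [h] at hrP
    exact hrP (fun x _ => by
      rw [mem_centralizer_iff]
      intro y hy
      rw [coe_bot, Set.mem_singleton_iff] at hy
      rw [hy, one_mul, mul_one])
  obtain ⟨n, hn⟩ := hRr.exists_card_eq
  have hrR : r ∣ Nat.card R := by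
    rw [hn]
    refine dvd_pow_self r ?_
    rintro rfl
    rw [pow_zero, Subgroup.card_eq_one] at hn
    exact hRbot hn
  -- `r ≠ p`
  have hrp : r ≠ p := by
    rintro rfl
    apply hpE
    calc r ∣ Nat.card R := hrR
      _ ∣ Nat.card (E.map φ) := Subgroup.card_dvd_of_le inf_le_left
      _ ∣ Nat.card E := Subgroup.card_map_dvd E φ
  -- `r ≠ q`
  have hrq : r ≠ q := by
    rintro rfl
    apply hRbot
    rw [eq_bot_iff]
    have h1 : ∀ x ∈ E ⊓ R.comap φ, φ x = 1 := by
      refine hss _ inferInstance inf_le_left ?_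
      intro x hx
      obtain ⟨k, hk⟩ := hRr ⟨φ x, hx.2⟩
      exact ⟨k, congrArg Subtype.val hk⟩
    intro y hy
    obtain ⟨x, hx, rfl⟩ := hy.1
    rw [mem_bot]
    exact h1 x ⟨hx, hy⟩
  have hPp : IsPGroup p ((P : Subgroup L).map φ) := P.isPGroup'.map φ
  set P1 : Subgroup G := (P : Subgroup L).map φ with hP1
  obtain ⟨k, hk⟩ := hPp.exists_card_eq
  have hdisj : R ⊓ P1 = ⊥ := by
    rw [eq_bot_iff]
    intro x hx
    rw [mem_bot, ← orderOf_eq_one_iff]
    refine Nat.eq_one_of_dvd_coprimes (a := r ^ n) (b := p ^ k)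
      (Nat.Coprime.pow _ _ ((Nat.coprime_primes hr hp).2 hrp)) ?_ ?_
    · rw [← hn]; exact Subgroup.orderOf_dvd_natCard R hx.1
    · rw [← hk]; exact Subgroup.orderOf_dvd_natCard P1 hx.2
  have hdvd : Nat.card (R ⊔ P1 : Subgroup G) ∣ r ^ n * p ^ k := by
    have h1 := card_sup_dvd R P1 hRn
    rwa [hn, hk] at h1
  have hidx : (P1.subgroupOf (R ⊔ P1)).index ∣ r ^ n := by
    have h1 : Nat.card (P1.subgroupOf (R ⊔ P1)) * (P1.subgroupOf (R ⊔ P1)).index = Nat.card (R ⊔ P1 : Subgroup G) :=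
      Subgroup.card_mul_index _
    rw [Nat.card_congr (Subgroup.subgroupOfEquivOfLe (le_sup_right : P1 ≤ R ⊔ P1)).toEquiv, hk] at h1
    rw [← h1, mul_comm (r ^ n)] at hdvd
    exact Nat.dvd_of_mul_dvd_mul_left (pow_pos hp.pos k) hdvd
  refine ⟨R ⊔ P1, inferInstance, ?_, IsPGroup.toSylow (P := P1.subgroupOf (R ⊔ P1)) ?_ ?_, ?_⟩
  · intro h
    have h1 := h.trans hdvd
    rcases (Nat.Prime.dvd_mul hq).1 h1 with h2 | h2
    · exact hrq.symm ((Nat.prime_dvd_prime_iff_eq hq hr).1 (hq.dvd_of_dvd_pow h2))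
    · exact hqp ((Nat.prime_dvd_prime_iff_eq hq hp).1 (hq.dvd_of_dvd_pow h2))
  · exact hPp.of_equiv (Subgroup.subgroupOfEquivOfLe (le_sup_right : P1 ≤ R ⊔ P1)).symm
  · intro h
    exact hrp.symm ((Nat.prime_dvd_prime_iff_eq hp hr).1 (hp.dvd_of_dvd_pow (h.trans hidx)))
  · intro h
    have hN : (P1.subgroupOf (R ⊔ P1)).Normal := h
    apply hrP
    rw [← commutator_eq_bot_iff_le_centralizer, commutator_comm, eq_bot_iff, ← hdisj]
    refine le_inf (commutator_le_left _ _) ?_
    rw [commutator_le]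
    intro x hx y hy
    have h1 := hN.conj_mem ⟨y, (le_sup_right : P1 ≤ R ⊔ P1) hy⟩ hy ⟨x, (le_sup_left : R ≤ R ⊔ P1) hx⟩
    have h2 : x * y * x⁻¹ ∈ P1 := h1
    rw [commutatorElement_def]
    exact P1.mul_mem h2 (P1.inv_mem hy)

end Cfsg.Agent.H668.Dim
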