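import Cfsg.Agent.H822.Cls.PrimDefs
import Cfsg.Agent.H822.Cls.SplitBasic
import Cfsg.Agent.H668.Dim.Core

/-!
# The module `X_q = {s ∈ S | s ^ q ∈ A} / A`
-/

set_option autoImplicit false
set_option linter.unusedSectionVars false

namespace Cfsg.Agent.H668.Dim

open scoped Pointwise commutatorElement
open Cfsg.Agent.H822.Cls

universe u

section

variable {L U F : Type u} [Group L] [AddCommGroup U] [DistribMulAction L U] [Field F] [Module F U]
  (D : Prim L U F)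

instance instAn : D.A.Normal := D.A_normal

instance instSn : D.S.Normal := D.S_normal

theorem A_comm {a s : L} (ha : a ∈ D.A) (hs : s ∈ D.S) : a * s = s * a :=
  (Subgroup.mem_centralizer_iff.1 (D.S_le hs)) a ha

theorem mk_comm {x y : L} (hx : x ∈ D.S) (hy : y ∈ D.S) :
    Commute (QuotientGroup.mk' D.A x) (QuotientGroup.mk' D.A y) := by
  have h1 := D.comm_mem x hx y hy
  have h2 : QuotientGroup.mk' D.A (x * y * x⁻¹ * y⁻¹) = 1 := (QuotientGroup.eq_one_iff _).2 h1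
  rw [map_mul, map_mul, map_mul, map_inv, map_inv] at h2
  rw [commute_iff_eq]
  have h3 := mul_inv_eq_one.1 h2
  exact mul_inv_eq_iff_eq_mul.1 h3

/-- `{s ∈ S | s ^ q ∈ A}` -/
def XL (q : ℕ) : Subgroup L where
  carrier := {s | s ∈ D.S ∧ s ^ q ∈ D.A}
  one_mem' := ⟨D.S.one_mem, by rw [one_pow]; exact D.A.one_mem⟩
  mul_mem' := by
    rintro x y ⟨hx, hx'⟩ ⟨hy, hy'⟩
    refine ⟨D.S.mul_mem hx hy, ?_⟩
    have h1 := (mk_comm D hx hy).mul_pow q
    rw [← map_mul, ← map_pow, ← map_pow, ← map_pow] at h1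
    have h2 : QuotientGroup.mk' D.A (x ^ q) = 1 := (QuotientGroup.eq_one_iff _).2 hx'
    have h3 : QuotientGroup.mk' D.A (y ^ q) = 1 := (QuotientGroup.eq_one_iff _).2 hy'
    rw [h2, h3, one_mul] at h1
    exact (QuotientGroup.eq_one_iff _).1 h1
  inv_mem' := by
    rintro x ⟨hx, hx'⟩
    exact ⟨D.S.inv_mem hx, by rw [inv_pow]; exact D.A.inv_mem hx'⟩

theorem mem_XL {q : ℕ} {s : L} : s ∈ XL D q ↔ s ∈ D.S ∧ s ^ q ∈ D.A := Iff.rfl

instance XL_normal (q : ℕ) : (XL D q).Normal := by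
  refine ⟨fun s hs g => ⟨D.S_normal.conj_mem s hs.1 g, ?_⟩⟩
  rw [conj_pow]
  exact D.A_normal.conj_mem _ hs.2 g

/-- the group `X_q` -/
def XQ (q : ℕ) : Subgroup (L ⧸ D.A) := (XL D q).map (QuotientGroup.mk' D.A)

instance XQ_normal (q : ℕ) : (XQ D q).Normal := (XL_normal D q).map _ (QuotientGroup.mk'_surjective _)

instance XQ_comm (q : ℕ) : CommGroup (XQ D q) :=
  { (inferInstance : Group (XQ D q)) with
    mul_comm := by
      rintro ⟨_, x, hx, rfl⟩ ⟨_, y, hy, rfl⟩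
      exact Subtype.ext (mk_comm D hx.1 hy.1) }

/-- the action of `L` on `X_q` -/
def rho (q : ℕ) : L →* MulAut (XQ D q) := (MulAut.conjNormal).comp (QuotientGroup.mk' D.A)

/-- the class of an element -/
def cl {q : ℕ} {s : L} (hs : s ∈ XL D q) : XQ D q :=
  ⟨QuotientGroup.mk' D.A s, Subgroup.mem_map_of_mem (QuotientGroup.mk' D.A) hs⟩

theorem exists_cl {q : ℕ} (x : XQ D q) : ∃ (s : L) (hs : s ∈ XL D q), x = cl D hs := by
  obtain ⟨_, s, hs, rfl⟩ := x
  exact ⟨s, hs, rfl⟩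

theorem rho_cl {q : ℕ} (g : L) {s : L} (hs : s ∈ XL D q) :
    rho D q g (cl D hs) = cl D ((XL_normal D q).conj_mem s hs g) := by
  refine Subtype.ext ?_
  show ((MulAut.conjNormal (QuotientGroup.mk' D.A g)) (cl D hs) : L ⧸ D.A) = _
  rw [MulAut.conjNormal_apply]
  rfl

theorem cl_mul {q : ℕ} {s t : L} (hs : s ∈ XL D q) (ht : t ∈ XL D q) :
    cl D hs * cl D ht = cl D ((XL D q).mul_mem hs ht) := rfl

theorem cl_eq_iff {q : ℕ} {s t : L} (hs : s ∈ XL D q) (ht : t ∈ XL D q) :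
    cl D hs = cl D ht ↔ s⁻¹ * t ∈ D.A := by
  rw [← Subtype.val_inj]
  exact QuotientGroup.eq

theorem cl_eq_one_iff {q : ℕ} {s : L} (hs : s ∈ XL D q) : cl D hs = 1 ↔ s ∈ D.A := by
  rw [cl, ← Subtype.val_inj]
  exact QuotientGroup.eq_one_iff s

theorem cl_pow (q : ℕ) (x : XQ D q) : x ^ q = 1 := by
  obtain ⟨s, hs, rfl⟩ := exists_cl D x
  refine Subtype.ext ?_
  show (QuotientGroup.mk' D.A s) ^ q = 1
  rw [← map_pow]
  exact (QuotientGroup.eq_one_iff _).2 hs.2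

theorem card_XQ {Q : Finset ℕ} {m : ℕ → ℕ} (hD : D.Num Q m) {q : ℕ} (hq : q ∈ Q) :
    Nat.card (XQ D q) = q ^ (2 * m q) := by
  rw [← hD.card_part q hq (XL D q) (fun s => mem_XL D), XQ, ← Subgroup.relIndex_ker, QuotientGroup.ker_mk']

theorem rho_eq_one_iff {q : ℕ} (g : L) : rho D q g = 1 ↔ D.Triv q g := by
  constructor
  · intro h s hs hsq
    have hs' : s ∈ XL D q := ⟨hs, hsq⟩
    have h1 := rho_cl D g hs'
    rw [h, MulAut.one_apply, eq_comm, cl_eq_iff] at h1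
    have h2 := D.A_normal.conj_mem _ h1 (g * s * g⁻¹)
    have h3 : g * s * g⁻¹ * ((g * s * g⁻¹)⁻¹ * s) * (g * s * g⁻¹)⁻¹ = (g * s * g⁻¹ * s⁻¹)⁻¹ := by group
    rw [h3] at h2
    exact (Subgroup.inv_mem_iff _).1 h2
  · intro h
    ext x
    obtain ⟨s, hs, rfl⟩ := exists_cl D x
    rw [rho_cl, MulAut.one_apply]
    congr 1
    rw [cl_eq_iff]
    have h1 := h s hs.1 hs.2
    have h2 := D.A_normal.conj_mem _ (D.A.inv_mem h1) (g * s * g⁻¹)⁻¹
    have h3 : (g * s * g⁻¹)⁻¹ * (g * s * g⁻¹ * s⁻¹)⁻¹ * ((g * s * g⁻¹)⁻¹)⁻¹ = (g * s * g⁻¹)⁻¹ * s := by group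
    rwa [h3] at h2

end

/-- an action by automorphisms on a commutative group, written additively -/
@[reducible]
def act {K Y : Type*} [Group K] [CommGroup Y] (f : K →* MulAut Y) : DistribMulAction K (Additive Y) where
  smul k y := Additive.ofMul (f k y.toMul)
  one_smul y := by
    show Additive.ofMul (f 1 y.toMul) = y
    rw [map_one]; rfl
  mul_smul a b y := by
    show Additive.ofMul (f (a * b) y.toMul) = Additive.ofMul (f a (f b y.toMul))
    rw [map_mul]; rfl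
  smul_zero a := by
    show Additive.ofMul (f a 1) = 0
    rw [map_one]; rfl
  smul_add a x y := by
    show Additive.ofMul (f a (x.toMul * y.toMul)) = Additive.ofMul (f a x.toMul) + Additive.ofMul (f a y.toMul)
    rw [map_mul]; rfl

end Cfsg.Agent.H668.Dim
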