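import Cfsg.Agent.H668.Dim.NotMem

/-!
# Dimension bounds for the parts of `S / A` (part T4b of S4148)
-/

set_option autoImplicit false
set_option linter.unusedSectionVars false

namespace Cfsg.Agent.H668.Dim

open scoped Pointwise commutatorElement
open Cfsg.Agent.H822.Cls

universe u

section

variable {L U F : Type u} [Group L] [AddCommGroup U] [DistribMulAction L U] [Field F] [Module F U]
  (D : Prim L U F)

theorem cm_congr {s s' t : L} (hs : s ∈ D.S) (ht : t ∈ D.S) (h : s⁻¹ * s' ∈ D.A) :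
    ⁅s, t⁆ = ⁅s', t⁆ := by
  have h1 : s' = s * (s⁻¹ * s') := by group
  rw [h1, cm_mul_left D hs (D.A_le h) ht, A_cm D h ht, mul_one]

theorem cm_sq {s t : L} (hs : s ∈ XL D 2) (ht : t ∈ D.S) : ⁅s, t⁆ ^ 2 = 1 := by
  rw [← cm_pow_left D hs.1 ht, A_cm D hs.2 ht]

/-- there is at most one element of order two in `A` -/
theorem inv_unique {a b : L} (ha : a ∈ D.A) (hb : b ∈ D.A) (ha2 : a ^ 2 = 1) (hb2 : b ^ 2 = 1) (ha1 : a ≠ 1)
    (hb1 : b ≠ 1) : a = b := by
  have key : ∀ c : D.A, (c : L) ^ 2 = 1 → (c : L) ≠ 1 → ((D.ι c : Fˣ) : F) = -1 := by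
    intro c hc hc1
    have h0 : c ^ 2 = 1 := Subtype.ext hc
    have h1 : D.ι c ^ 2 = 1 := by rw [← map_pow, h0, map_one]
    have h2 : ((D.ι c : Fˣ) : F) ^ 2 = 1 := by rw [← Units.val_pow_eq_pow_val, h1, Units.val_one]
    rcases sq_eq_one_iff.1 h2 with h3 | h3
    · exfalso
      apply hc1
      have h4 : D.ι c = D.ι 1 := by rw [map_one]; exact Units.ext h3
      rw [D.ι_inj h4]
      rfl
    · exact h3
  have h5 : D.ι ⟨a, ha⟩ = D.ι ⟨b, hb⟩ := Units.ext ((key ⟨a, ha⟩ ha2 ha1).trans (key ⟨b, hb⟩ hb2 hb1).symm)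
  exact congrArg Subtype.val (D.ι_inj h5)

open Classical in
/-- the commutator form on `X_2` -/
noncomputable def beta (x y : Additive (XQ D 2)) : ZMod 2 :=
  if (∃ s t : L, ∃ hs : s ∈ XL D 2, ∃ ht : t ∈ XL D 2,
    cl D hs = x.toMul ∧ cl D ht = y.toMul ∧ ⁅s, t⁆ = 1) then 0 else 1

open Classical in
theorem beta_cl {s t : L} (hs : s ∈ XL D 2) (ht : t ∈ XL D 2) :
    beta D (Additive.ofMul (cl D hs)) (Additive.ofMul (cl D ht)) = if ⁅s, t⁆ = 1 then 0 else 1 := by
  unfold beta
  congr 1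
  apply propext
  constructor
  · rintro ⟨s', t', hs', ht', h1, h2, h3⟩
    have h4 := (cl_eq_iff D hs' hs).1 h1
    have h5 := (cl_eq_iff D ht' ht).1 h2
    rw [← cm_congr D hs'.1 ht.1 h4, ← commutatorElement_inv, ← cm_congr D ht'.1 hs'.1 h5,
      commutatorElement_inv, h3]
  · intro h
    exact ⟨s, t, hs, ht, rfl, rfl, h⟩

theorem beta_symm (x y : Additive (XQ D 2)) : beta D x y = beta D y x := by
  obtain ⟨s, hs, hx⟩ := exists_cl D x.toMul
  obtain ⟨t, ht, hy⟩ := exists_cl D y.toMul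
  have hx' : x = Additive.ofMul (cl D hs) := hx
  have hy' : y = Additive.ofMul (cl D ht) := hy
  rw [hx', hy', beta_cl, beta_cl]
  congr 1
  rw [commutatorElement_eq_one_iff_mul_comm, commutatorElement_eq_one_iff_mul_comm]
  exact propext eq_comm

theorem beta_add (x y z : Additive (XQ D 2)) : beta D (x + y) z = beta D x z + beta D y z := by
  obtain ⟨s, hs, hx⟩ := exists_cl D x.toMul
  obtain ⟨t, ht, hy⟩ := exists_cl D y.toMul
  obtain ⟨r, hr, hz⟩ := exists_cl D z.toMul
  have hx' : x = Additive.ofMul (cl D hs) := hx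
  have hy' : y = Additive.ofMul (cl D ht) := hy
  have hz' : z = Additive.ofMul (cl D hr) := hz
  have hxy : x + y = Additive.ofMul (cl D ((XL D 2).mul_mem hs ht)) := by
    rw [hx', hy', ← cl_mul D hs ht]; rfl
  rw [hxy, hx', hy', hz', beta_cl, beta_cl, beta_cl, cm_mul_left D hs.1 ht.1 hr.1]
  by_cases h1 : ⁅s, r⁆ = 1
  · rw [h1, one_mul, if_pos rfl, zero_add]
  · by_cases h2 : ⁅t, r⁆ = 1
    · rw [h2, mul_one, if_pos rfl, add_zero]
    · have h3 : ⁅s, r⁆ = ⁅t, r⁆ :=
        inv_unique D (cm_mem D hs.1 hr.1) (cm_mem D ht.1 hr.1) (cm_sq D hs hr.1) (cm_sq D ht hr.1) h1 h2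
      rw [if_neg h1, if_neg h2, h3, ← pow_two, cm_sq D ht hr.1, if_pos rfl]
      decide

theorem beta_add' (x y z : Additive (XQ D 2)) : beta D x (y + z) = beta D x y + beta D x z := by
  rw [beta_symm, beta_add, beta_symm D y, beta_symm D z]

theorem beta_nondeg (x : Additive (XQ D 2)) (h : ∀ y, beta D x y = 0) : x = 0 := by
  obtain ⟨s, hs, hx⟩ := exists_cl D x.toMul
  have hx' : x = Additive.ofMul (cl D hs) := hx
  have h1 : ∀ t ∈ XL D 2, ⁅s, t⁆ = 1 := by
    intro t ht
    have h2 := h (Additive.ofMul (cl D ht))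
    rw [hx', beta_cl] at h2
    by_contra h3
    rw [if_neg h3] at h2
    exact one_ne_zero h2
  have h4 : s ∈ D.A := by
    apply D.cent_le
    rw [Subgroup.mem_centralizer_iff]
    intro t ht
    obtain ⟨N, hN, htN⟩ := D.prime_exp t ht
    rw [eq_comm, ← commutatorElement_eq_one_iff_mul_comm]
    have h5 := cm_sq D hs ht
    -- an odd power of `t` lies in `XL`
    have h6 : ∃ k : ℕ, Odd k ∧ ⁅s, t⁆ ^ k = 1 := by
      rcases Nat.even_or_odd N with ⟨c, hc⟩ | hodd
      · refine ⟨c, ?_, ?_⟩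
        · rw [← Nat.not_even_iff_odd]
          rintro ⟨b, hb⟩
          have h7 : 2 * 2 ∣ N := ⟨b, by omega⟩
          have h8 := hN 2 h7
          rw [Nat.isUnit_iff] at h8
          omega
        · rw [← cm_pow_right D hs.1 ht]
          apply h1
          refine ⟨D.S.pow_mem ht c, ?_⟩
          rw [← pow_mul, mul_comm c 2, two_mul, ← hc]
          exact htN
      · refine ⟨N, hodd, ?_⟩
        rw [← cm_pow_right D hs.1 ht, ← commutatorElement_inv, A_cm D htN hs.1, inv_one]
    obtain ⟨k, ⟨c, hc⟩, hk⟩ := h6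
    rw [hc, pow_add, pow_mul, h5, one_pow, one_mul, pow_one] at hk
    exact hk
  rw [hx', (cl_eq_one_iff D hs).2 h4]
  rfl

theorem beta_inv (g : L) (x y : Additive (XQ D 2)) :
    beta D (Additive.ofMul (rho D 2 g x.toMul)) (Additive.ofMul (rho D 2 g y.toMul)) = beta D x y := by
  obtain ⟨s, hs, hx⟩ := exists_cl D x.toMul
  obtain ⟨t, ht, hy⟩ := exists_cl D y.toMul
  have hx' : x = Additive.ofMul (cl D hs) := hx
  have hy' : y = Additive.ofMul (cl D ht) := hy
  rw [hx, hy, rho_cl, rho_cl, beta_cl, hx', hy', beta_cl]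
  congr 1
  apply propext
  have h1 : ⁅g * s * g⁻¹, g * t * g⁻¹⁆ = g * ⁅s, t⁆ * g⁻¹ := by
    simp only [commutatorElement_def]
    group
  rw [h1]
  constructor
  · intro h
    have h2 : g⁻¹ * (g * ⁅s, t⁆ * g⁻¹) * g = g⁻¹ * 1 * g := by rw [h]
    have h3 : g⁻¹ * (g * ⁅s, t⁆ * g⁻¹) * g = ⁅s, t⁆ := by group
    rw [← h3, h2, mul_one, inv_mul_cancel]
  · intro h
    rw [h, mul_one, mul_inv_cancel]

end

theorem dim_bound (h1 : LemD.{u}) (h2 : LemDTwo.{u}) : DimBound.{u} := by
  intro L U F _ _ _ _ _ _ _ _ _ _ D Q m hD M H hS p hp hp2 hpH P q hqQ hne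
  have hq := hD.prime q hqQ
  have hqp : q ≠ p := by
    rintro rfl
    exact not_mem D hD M H hS hp hpH hqQ
  refine ⟨hqp, ?_⟩
  have hEn : (⁅M, (P : Subgroup L)⁆ : Subgroup L).Normal := hS.commutator_normal' hp hpH P
  have hEP := hS.commutator_commutator hp hpH P
  have hpE : ¬ p ∣ Nat.card (⁅M, (P : Subgroup L)⁆ : Subgroup L) := by
    intro h
    have h3 : p ∣ Nat.card M := h.trans (Subgroup.card_dvd_of_le (hS.commutator_le _))
    exact hp.one_lt.ne' (Nat.eq_one_of_dvd_coprimes hS.cop h3 hpH)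
  obtain ⟨K, hKs, hqK, P', hP'⟩ := exists_section (rho D q).rangeRestrict (rho D q).rangeRestrict_surjective
    hp hq hqp ⁅M, (P : Subgroup L)⁆ hEn P hpE hEP
    (by
      intro E' hE'n _ h x hx
      have h3 := D.ss q hq E' hE'n (by
        intro y hy
        obtain ⟨k, hk⟩ := h y hy
        refine ⟨k, ?_⟩
        have h4 : rho D q (y ^ q ^ k) = 1 := by
          rw [map_pow]
          exact congrArg Subtype.val hk
        exact (rho_eq_one_iff D _).1 h4) x hx
      exact Subtype.ext ((rho_eq_one_iff D x).2 h3))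
    (by
      intro h
      apply hne
      intro x hx
      exact (rho_eq_one_iff D x).1 (congrArg Subtype.val (h x hx)))
  let _ := act ((rho D q).range.subtype.comp K.subtype)
  have hLf : Finite (L ⧸ D.A) := inferInstance
  have hXf : Finite (Additive (XQ D q)) := inferInstanceAs (Finite (XQ D q))
  have hcard : Nat.card (Additive (XQ D q)) = q ^ (2 * m q) := card_XQ D hD hqQ
  have hX : ∀ x : Additive (XQ D q), q • x = 0 := fun x => cl_pow D q x.toMul
  have hfaith : ∀ g : K, (∀ x : Additive (XQ D q), g • x = x) → g = 1 := by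
    intro g hg
    refine Subtype.ext (Subtype.ext ?_)
    ext x
    exact congrArg Subtype.val (hg (Additive.ofMul x))
  constructor
  · rintro rfl
    have hodd : Odd (Nat.card K) := by
      rw [← Nat.not_even_iff_odd, even_iff_two_dvd]
      exact hqK
    have h3 := h2 p hp K hodd (Additive (XQ D 2)) hX hfaith (beta D) (beta_add D) (beta_add' D) (beta_nondeg D)
      (by
        rintro ⟨⟨_, g, rfl⟩, hg⟩ x y
        exact beta_inv D g x y) P' hP' _ hcard
    omega
  · intro hq2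
    have h3 := h1 q p hq hp K hqK (Additive (XQ D q)) hX hfaith P' hP' _ hcard
    have hm := hD.one_le q hqQ
    constructor
    · rcases h3 with h3 | ⟨h3, _⟩ <;> omega
    · rintro rfl
      rcases h3 with h3 | ⟨h3, k, hk⟩
      · omega
      · exfalso
        have h6 : 2 ^ k = 6 := by omega
        have h7 : k < 3 := by
          by_contra h
          have : 2 ^ 3 ≤ 2 ^ k := Nat.pow_le_pow_right (by norm_num) (by omega)
          omega
        interval_cases k <;> omega

end Cfsg.Agent.H668.Dim
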