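import Cfsg.Agent.H668.Dim.Mod

/-!
# The primes dividing `|H|` do not divide `|S / A|`
-/

set_option autoImplicit false
set_option linter.unusedSectionVars false

namespace Cfsg.Agent.H668.Dim

open scoped Pointwise commutatorElement
open Cfsg.Agent.H822.Cls

universe u

section

variable {L U F : Type u} [Group L] [AddCommGroup U] [DistribMulAction L U] [Field F] [Module F U]
  (D : Prim L U F)

theorem cm_mem {s t : L} (hs : s ∈ D.S) (ht : t ∈ D.S) : ⁅s, t⁆ ∈ D.A := D.comm_mem s hs t ht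

theorem cm_mul_left {s₁ s₂ t : L} (h1 : s₁ ∈ D.S) (h2 : s₂ ∈ D.S) (ht : t ∈ D.S) :
    ⁅s₁ * s₂, t⁆ = ⁅s₁, t⁆ * ⁅s₂, t⁆ := by
  have a1 := A_comm D (cm_mem D h2 ht) h1
  have a2 := A_comm D (cm_mem D h2 ht) (D.A_le (cm_mem D h1 ht))
  have a3 : ⁅s₁ * s₂, t⁆ = s₁ * ⁅s₂, t⁆ * s₁⁻¹ * ⁅s₁, t⁆ := by
    simp only [commutatorElement_def]
    group
  rw [a3, ← a1, mul_assoc ⁅s₂, t⁆, mul_inv_cancel, mul_one, a2]

theorem cm_mul_right {s t₁ t₂ : L} (hs : s ∈ D.S) (h1 : t₁ ∈ D.S) (h2 : t₂ ∈ D.S) :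
    ⁅s, t₁ * t₂⁆ = ⁅s, t₁⁆ * ⁅s, t₂⁆ := by
  rw [← commutatorElement_inv, cm_mul_left D h1 h2 hs, mul_inv_rev, commutatorElement_inv, commutatorElement_inv]
  exact A_comm D (cm_mem D hs h2) (D.A_le (cm_mem D hs h1))

theorem cm_pow_left {s t : L} (hs : s ∈ D.S) (ht : t ∈ D.S) (k : ℕ) : ⁅s ^ k, t⁆ = ⁅s, t⁆ ^ k := by
  induction k with
  | zero => rw [pow_zero, pow_zero, commutatorElement_one_left]
  | succ k ih => rw [pow_succ, cm_mul_left D (D.S.pow_mem hs k) hs ht, ih, pow_succ]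

theorem cm_pow_right {s t : L} (hs : s ∈ D.S) (ht : t ∈ D.S) (k : ℕ) : ⁅s, t ^ k⁆ = ⁅s, t⁆ ^ k := by
  rw [← commutatorElement_inv, cm_pow_left D ht hs, ← inv_pow, commutatorElement_inv]

theorem A_cm {a s : L} (ha : a ∈ D.A) (hs : s ∈ D.S) : ⁅a, s⁆ = 1 :=
  commutatorElement_eq_one_iff_mul_comm.2 (A_comm D ha hs)

end

theorem sylow_comm {L : Type*} [Group L] [Finite L] {M H : Subgroup L} (hS : Split M H) {p : ℕ} (hp : p.Prime)
    (hpH : p ∣ Nat.card H) {P : Subgroup L} (hP : IsPGroup p P) : ∀ x ∈ P, ∀ y ∈ P, x * y = y * x := by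
  have hpf : Fact p.Prime := ⟨hp⟩
  obtain ⟨P0, hP0⟩ := hS.exists_sylow hp hpH
  obtain ⟨P1, hP1⟩ := hP.exists_le_sylow
  obtain ⟨k, hk, hkQ⟩ := hS.sylow_conj hp P0 P1 hP0
  intro x hx y hy
  have h1 := hS.comm _ (hP0 ((hkQ x).1 (hP1 hx))) _ (hP0 ((hkQ y).1 (hP1 hy)))
  have h2 : k * (k⁻¹ * x * k * (k⁻¹ * y * k)) * k⁻¹ = k * (k⁻¹ * y * k * (k⁻¹ * x * k)) * k⁻¹ := by rw [h1]
  have h3 : k * (k⁻¹ * x * k * (k⁻¹ * y * k)) * k⁻¹ = x * y := by group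
  have h4 : k * (k⁻¹ * y * k * (k⁻¹ * x * k)) * k⁻¹ = y * x := by group
  rw [← h3, h2, h4]

/-- splitting off the `p'`-part of the order -/
theorem exists_pow_eq {L : Type*} [Group L] [Finite L] (s : L) {p : ℕ} (hp : p.Prime) :
    ∃ n : ℕ, p.Coprime n ∧ ∃ k : ℕ, (s ^ n) ^ p ^ k = 1 := by
  have h0 : orderOf s ≠ 0 := (orderOf_pos s).ne'
  refine ⟨orderOf s / p ^ (orderOf s).factorization p, ?_, (orderOf s).factorization p, ?_⟩
  · exact (Nat.coprime_ordCompl hp h0)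
  · rw [← pow_mul, Nat.div_mul_cancel (Nat.ordProj_dvd _ _), pow_orderOf_eq_one]

section

variable {L U F : Type u} [Group L] [Finite L] [AddCommGroup U] [DistribMulAction L U] [Field F] [Module F U]
  (D : Prim L U F)

theorem pow_mem_iff {p n : ℕ} (hpn : p.Coprime n) {s : L} (h1 : s ^ p ∈ D.A) (h2 : s ^ n ∈ D.A) : s ∈ D.A := by
  have h := Nat.gcd_eq_gcd_ab p n
  rw [hpn.gcd_eq_one] at h
  have h3 : s = (s ^ p) ^ (p.gcdA n) * (s ^ n) ^ (p.gcdB n) := by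
    rw [← zpow_natCast s p, ← zpow_natCast s n, ← zpow_mul, ← zpow_mul, ← zpow_add, ← h, Nat.cast_one, zpow_one]
  rw [h3]
  exact D.A.mul_mem (D.A.zpow_mem h1 _) (D.A.zpow_mem h2 _)

/-- the primes dividing `|H|` do not occur in `S / A` -/
theorem not_mem_aux {M H : Subgroup L} (hS : Split M H) {p : ℕ} (hp : p.Prime)
    (hpH : p ∣ Nat.card H) {s : L} (hs : s ∈ XL D p) : s ∈ D.A := by
  have hpf : Fact p.Prime := ⟨hp⟩
  by_contra hsA
  obtain ⟨n, hn, k, hk⟩ := exists_pow_eq s hp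
  have ht : s ^ n ∉ D.A := fun h => hsA (pow_mem_iff D hn hs.2 h)
  have htS : s ^ n ∈ D.S := D.S.pow_mem hs.1 n
  -- it does not commute with all of `S`
  have h1 : ∃ s' ∈ D.S, ⁅s ^ n, s'⁆ ≠ 1 := by
    by_contra hcon
    push Not at hcon
    apply ht
    apply D.cent_le
    rw [Subgroup.mem_centralizer_iff]
    intro y hy
    exact (commutatorElement_eq_one_iff_mul_comm.1 (hcon y hy)).symm
  obtain ⟨s', hs', hne⟩ := h1
  obtain ⟨n', hn', k', hk'⟩ := exists_pow_eq s' hp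
  have h2 : ⁅s ^ n, s' ^ n'⁆ ≠ 1 := by
    intro h
    rw [cm_pow_right D htS hs'] at h
    have h3 : ⁅s ^ n, s'⁆ ^ p ^ k = 1 := by
      rw [← cm_pow_left D htS hs', hk, commutatorElement_one_left]
    apply hne
    rw [← orderOf_eq_one_iff]
    exact Nat.eq_one_of_dvd_coprimes (Nat.Coprime.pow_left k hn') (orderOf_dvd_of_pow_eq_one h3)
      (orderOf_dvd_of_pow_eq_one h)
  have ht'S : s' ^ n' ∈ D.S := D.S.pow_mem hs' n'
  have hpt : IsPGroup p (Subgroup.zpowers (⟨s ^ n, htS⟩ : D.S)) := by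
    rintro ⟨x, i, rfl⟩
    refine ⟨k, Subtype.ext (Subtype.ext ?_)⟩
    show ((s ^ n) ^ i) ^ p ^ k = 1
    rw [← zpow_natCast, ← zpow_mul, mul_comm i, zpow_mul, zpow_natCast, hk, one_zpow]
  have hpt' : IsPGroup p (Subgroup.zpowers (⟨s' ^ n', ht'S⟩ : D.S)) := by
    rintro ⟨x, i, rfl⟩
    refine ⟨k', Subtype.ext (Subtype.ext ?_)⟩
    show ((s' ^ n') ^ i) ^ p ^ k' = 1
    rw [← zpow_natCast, ← zpow_mul, mul_comm i, zpow_mul, zpow_natCast, hk', one_zpow]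
  obtain ⟨T, hT⟩ := hpt.exists_le_sylow
  obtain ⟨T', hT'⟩ := hpt'.exists_le_sylow
  obtain ⟨g, hg⟩ := MulAction.exists_smul_eq D.S T' T
  have h3 : (⟨s ^ n, htS⟩ : D.S) ∈ T := hT (Subgroup.mem_zpowers _)
  have h4 : g * (⟨s' ^ n', ht'S⟩ : D.S) * g⁻¹ ∈ T := by
    rw [← hg]
    have h5 : (⟨s' ^ n', ht'S⟩ : D.S) ∈ T' := hT' (Subgroup.mem_zpowers _)
    exact Subgroup.smul_mem_pointwise_smul _ (MulAut.conj g) _ h5
  have h6 := sylow_comm hS hp hpH (T.isPGroup'.map D.S.subtype) (s ^ n) ⟨_, h3, rfl⟩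
    ((g : L) * (s' ^ n') * (g : L)⁻¹) ⟨_, h4, rfl⟩
  apply h2
  have h7 : (g : L) * (s' ^ n') * (g : L)⁻¹ = ⁅(g : L), s' ^ n'⁆ * s' ^ n' := by
    rw [commutatorElement_def]
    group
  rw [h7] at h6
  have h8 := commutatorElement_eq_one_iff_mul_comm.2 h6
  rw [cm_mul_right D htS (D.A_le (cm_mem D g.2 ht'S)) ht'S, ← commutatorElement_inv,
    A_cm D (cm_mem D g.2 ht'S) htS, inv_one, one_mul] at h8
  exact h8

end

section

variable {L U F : Type u} [Group L] [Finite L] [AddCommGroup U] [Finite U] [Nontrivial U] [DistribMulAction L U]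
  [Field F] [Finite F] [Module F U] (D : Prim L U F)

/-- the primes dividing `|H|` do not divide `|S / A|` -/
theorem not_mem {Q : Finset ℕ} {m : ℕ → ℕ} (hD : D.Num Q m) (M H : Subgroup L) (hS : Split M H) {p : ℕ}
    (hp : p.Prime) (hpH : p ∣ Nat.card H) : p ∉ Q := by
  intro hpQ
  have h1 := card_XQ D hD hpQ
  have h2 : ∀ x : XQ D p, x = 1 := by
    intro x
    obtain ⟨s, hs, rfl⟩ := exists_cl D x
    rw [cl_eq_one_iff]
    exact not_mem_aux D hS hp hpH hs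
  have h3 : Nat.card (XQ D p) = 1 := by
    rw [Nat.card_eq_one_iff_unique]
    exact ⟨⟨fun a b => by rw [h2 a, h2 b]⟩, ⟨1⟩⟩
  rw [h1] at h3
  have h4 := hD.one_le p hpQ
  have h5 : 1 < p ^ (2 * m p) := Nat.one_lt_pow (by omega) hp.one_lt
  omega

end

end Cfsg.Agent.H668.Dim
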